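import Cfsg.Agent.S0205
import Cfsg.Agent.H72.ExtremelyInvolution

/-!
# Groups whose abelian `p`-subgroups of equal order are related by automorphisms
-/

set_option autoImplicit false

namespace Cfsg.Agent.H93.CosylConj

open Subgroup

universe u

/-- Abelian `p`-subgroups of equal order are related by automorphisms. -/
def AbConj (X : Type u) [Group X] : Prop :=
  ∀ p : ℕ, p.Prime → ∀ A B : Subgroup X, IsPGroup p A → IsPGroup p B → IsMulCommutative A →
    IsMulCommutative B → Nat.card A = Nat.card B → ∃ α : MulAut X, B = A.map α.toMonoidHom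

/-- Inherited by normal subgroups from conjugacy in the whole group. -/
theorem AbConj.of_normal {G : Type u} [Group G]
    (h : ∀ p : ℕ, p.Prime → ∀ A B : Subgroup G, IsPGroup p A → IsPGroup p B → IsMulCommutative A →
      IsMulCommutative B → Nat.card A = Nat.card B → ∃ g : G, B = A.map (MulAut.conj g).toMonoidHom)
    (M : Subgroup G) [M.Normal] : AbConj ↥M := by
  intro p hp A B hA hB cA cB hc
  haveI := cA
  haveI := cB
  obtain ⟨g, hg⟩ := h p hp (A.map M.subtype) (B.map M.subtype) (hA.map _) (hB.map _) inferInstance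
    inferInstance (by rwa [card_map_of_injective M.subtype_injective,
      card_map_of_injective M.subtype_injective])
  refine ⟨MulAut.conjNormal g, map_injective M.subtype_injective ?_⟩
  rw [hg, map_map, map_map]
  exact congrArg (A.map ·) (MonoidHom.ext fun x => (MulAut.conjNormal_apply g x).symm)

variable {X : Type u} [Group X]

/-- A subgroup of order `p ^ 2` and exponent `p` excludes elements of order `p ^ 2`. -/
theorem AbConj.no_sq (h : AbConj X) {p : ℕ} (hp : p.Prime) {A : Subgroup X}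
    (hcard : Nat.card A = p ^ 2) (hcomm : IsMulCommutative A) (hexp : ∀ a ∈ A, a ^ p = 1)
    {x : X} (hx : orderOf x = p ^ 2) : False := by
  haveI := Fact.mk hp
  have hz : IsPGroup p (zpowers x) := IsPGroup.of_card (n := 2) (by rw [Nat.card_zpowers, hx])
  obtain ⟨α, hα⟩ := h p hp A (zpowers x) (IsPGroup.of_card hcard) hz hcomm inferInstance
    (by rw [hcard, Nat.card_zpowers, hx])
  obtain ⟨a, ha, hax⟩ := mem_map.1 (hα ▸ mem_zpowers x)
  have : x ^ p = 1 := by rw [← hax, ← map_pow, hexp a ha, map_one]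
  have hd := orderOf_dvd_of_pow_eq_one this
  rw [hx] at hd
  have h1 := Nat.le_of_dvd hp.pos hd
  have h2 := hp.two_le
  nlinarith

/-- A commutative subgroup of exponent `p` larger than `p` forces exponent `p` on `p`-elements. -/
theorem AbConj.pow_eq_one [Finite X] (h : AbConj X) {p : ℕ} (hp : p.Prime) {K : Subgroup X}
    (hcomm : ∀ a ∈ K, ∀ b ∈ K, a * b = b * a) (hexp : ∀ a ∈ K, a ^ p = 1) (hbig : p < Nat.card K)
    {x : X} {k : ℕ} (hx : x ^ p ^ k = 1) : x ^ p = 1 := by
  haveI := Fact.mk hp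
  obtain ⟨n, hn⟩ := (IsPGroup.iff_card (p := p) (G := ↥K)).1 fun a =>
    ⟨1, Subtype.ext (by rw [SubmonoidClass.coe_pow, pow_one, hexp a a.2, OneMemClass.coe_one])⟩
  have h2 : 2 ≤ n := by
    by_contra hc
    interval_cases n
    · rw [pow_zero] at hn; have := hp.two_le; omega
    · rw [pow_one] at hn; omega
  obtain ⟨A, hA⟩ := Sylow.exists_subgroup_card_pow_prime (G := ↥K) p (n := 2)
    (hn ▸ pow_dvd_pow p h2)
  haveI hK : IsMulCommutative ↥K := ⟨⟨fun a b => Subtype.ext (hcomm a a.2 b b.2)⟩⟩
  obtain ⟨j, -, hj⟩ := (Nat.dvd_prime_pow hp).1 (orderOf_dvd_of_pow_eq_one hx)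
  rw [← orderOf_dvd_iff_pow_eq_one, hj]
  by_contra hlt
  have hj2 : 2 ≤ j := by
    by_contra hc
    exact hlt (by simpa using pow_dvd_pow p (show j ≤ 1 by omega))
  refine h.no_sq hp (A := A.map K.subtype) ?_ inferInstance ?_ (x := x ^ p ^ (j - 2)) ?_
  · rw [card_map_of_injective K.subtype_injective, hA]
  · rintro _ ⟨a, -, rfl⟩
    exact hexp _ a.2
  · rw [orderOf_pow' _ (pow_ne_zero _ hp.ne_zero), hj,
      Nat.gcd_eq_right (pow_dvd_pow p (by omega)), Nat.pow_div (by omega) hp.pos,
      show j - (j - 2) = 2 by omega]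

/-- Subgroups of order `p` are related by automorphisms. -/
theorem AbConj.exists_aut (h : AbConj X) {p : ℕ} (hp : p.Prime) {x y : X} (hx : orderOf x = p)
    (hy : orderOf y = p) : ∃ α : MulAut X, y ∈ zpowers (α x) := by
  obtain ⟨α, hα⟩ := h p hp (zpowers x) (zpowers y)
    (IsPGroup.of_card (n := 1) (by rw [Nat.card_zpowers, hx, pow_one]))
    (IsPGroup.of_card (n := 1) (by rw [Nat.card_zpowers, hy, pow_one])) inferInstance inferInstance
    (by rw [Nat.card_zpowers, hx, Nat.card_zpowers, hy])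
  refine ⟨α, ?_⟩
  have := hα ▸ mem_zpowers y
  rwa [MonoidHom.map_zpowers] at this

theorem even_card [Finite X] [IsSimpleGroup X] (hna : ¬ IsMulCommutative X) : 2 ∣ Nat.card X := by
  by_contra hodd
  haveI : Group.IsSolvable X := Cfsg.Agent.S0205.result (Nat.odd_iff.2 (by omega))
  exact hna ⟨⟨fun a b => IsSimpleGroup.comm_iff_isSolvable.2 inferInstance a b⟩⟩

/-- In a simple group every 2-element has square one. -/
theorem AbConj.sq_eq_one [Finite X] [IsSimpleGroup X] (h : AbConj X) (hna : ¬ IsMulCommutative X)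
    {x : X} {k : ℕ} (hx : x ^ 2 ^ k = 1) : x ^ 2 = 1 := by
  haveI : Fact (Nat.Prime 2) := ⟨Nat.prime_two⟩
  obtain ⟨z, hz⟩ := exists_prime_orderOf_dvd_card' 2 (even_card hna)
  obtain ⟨y, hy, hyz, hne⟩ := H72.ExtremelyInvolution.exists_commuting_involution hna hz
  have hgen : ∀ a ∈ ({z, y} : Set X), ∀ b ∈ ({z, y} : Set X), a * b = b * a := by
    rintro a (rfl | rfl) b (rfl | rfl)
    · rfl
    · exact hyz.eq.symm
    · exact hyz.eq
    · rfl
  haveI hK := isMulCommutative_closure hgen
  set K := closure ({z, y} : Set X) with hKdef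
  have hzK : z ∈ K := subset_closure (Or.inl rfl)
  have hyK : y ∈ K := subset_closure (Or.inr rfl)
  have hc : ∀ a ∈ K, ∀ b ∈ K, a * b = b * a := fun a ha b hb =>
    congrArg Subtype.val (hK.is_comm.comm ⟨a, ha⟩ ⟨b, hb⟩)
  refine h.pow_eq_one Nat.prime_two hc ?_ ?_ hx
  · intro a ha
    induction ha using closure_induction with
    | mem a ha =>
      rcases ha with rfl | rfl
      · rw [← hz, pow_orderOf_eq_one]
      · rw [← hy, pow_orderOf_eq_one]
    | one => exact one_pow 2
    | mul a b ha hb iha ihb =>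
      rw [Commute.mul_pow (hc a ha b hb), iha, ihb, one_mul]
    | inv a _ iha => rw [inv_pow, iha, inv_one]
  · have : Finite K := inferInstance
    have hz1 : z ≠ 1 := fun e => by simp [e] at hz
    have hy1 : y ≠ 1 := fun e => by simp [e] at hy
    have hlt : ({1, z, y} : Set X).ncard ≤ (K : Set X).ncard :=
      Set.ncard_le_ncard (Set.insert_subset K.one_mem (Set.insert_subset hzK
        (Set.singleton_subset_iff.2 hyK))) (Set.toFinite _)
    rw [Set.ncard_eq_three.2 ⟨1, z, y, hz1.symm, hy1.symm, hne.symm, rfl⟩,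
      ← Nat.card_coe_set_eq] at hlt
    exact hlt

/-- The Sylow 2-subgroups are abelian. -/
theorem AbConj.absyl [Finite X] [IsSimpleGroup X] (h : AbConj X) (hna : ¬ IsMulCommutative X)
    (T : Sylow 2 X) : IsMulCommutative ↥(T : Subgroup X) := by
  refine ⟨⟨fun a b => ?_⟩⟩
  have key : ∀ c : ↥(T : Subgroup X), c⁻¹ = c := fun c => by
    obtain ⟨k, hk⟩ := T.2 c
    have := h.sq_eq_one hna (x := (c : X)) (k := k) (by
      rw [← SubmonoidClass.coe_pow, hk, OneMemClass.coe_one])
    exact inv_eq_of_mul_eq_one_right (Subtype.ext (by rw [pow_two] at this; exact this))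
  rw [← key (a * b), mul_inv_rev, key, key]

end Cfsg.Agent.H93.CosylConj
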