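import Cfsg.Agent.H93.CosylConj.Basic
import Cfsg.Agent.H62.PushL2
import Cfsg.Agent.Linear.Simple
import Cfsg.Agent.S2602
import Cfsg.Agent.H19.Fixity.TwoTools

/-!
# `PSL₂(2 ^ n)` with automorphisms transitive on the four-groups
-/

set_option autoImplicit false

namespace Cfsg.Agent.H93.CosylConj

open Subgroup
open scoped Pointwise

universe u v

theorem AbConj.congr {X : Type u} {Y : Type v} [Group X] [Group Y] (h : AbConj X) (e : X ≃* Y) : AbConj Y := by
  intro p hp A B hA hB cA cB hc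
  haveI := cA
  haveI := cB
  obtain ⟨α, hα⟩ := h p hp (A.map e.symm.toMonoidHom) (B.map e.symm.toMonoidHom) (hA.map _) (hB.map _)
    inferInstance inferInstance (by
      rwa [card_map_of_injective e.symm.injective, card_map_of_injective e.symm.injective])
  refine ⟨(e.symm.trans α).trans e, ?_⟩
  have hB' : B = (B.map e.symm.toMonoidHom).map e.toMonoidHom := by
    rw [map_map]
    convert (map_id B).symm using 2
    ext x
    simp
  rw [hB', hα, map_map, map_map]
  rfl

section PSL

variable {F : Type} [Field F] [Fintype F] [CharP F 2]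

local notation "P2" => Matrix.ProjectiveSpecialLinearGroup (Fin 2) F
local notation "S2" => Matrix.SpecialLinearGroup (Fin 2) F

theorem card_centralizer_invol {s : P2} (hs : s ≠ 1) (hs2 : s * s = 1) :
    Nat.card (centralizer ({s} : Set P2)) = Fintype.card F := by
  obtain ⟨S, rfl⟩ := QuotientGroup.mk'_surjective _ s
  have ht : (S : Matrix (Fin 2) (Fin 2) F).trace = 2 := by
    refine (Linear.pow_char_eq_one_iff 2 S).1 (H62.PU.toPSL_injective F ?_)
    show (QuotientGroup.mk' _) (S ^ 2) = (QuotientGroup.mk' _) 1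
    rw [map_pow, pow_two, map_one]
    exact hs2
  have h1 := Linear.card_centralizer_unipotent (H55.not_scalar_of_ne_one hs) ht
  rw [Linear.card_sq_eq_one_char_two CharTwo.two_eq_zero, one_mul] at h1
  refine Eq.trans (Nat.card_congr ?_) h1
  refine ((H62.PU.pslEquiv F).toEquiv.subtypeEquiv fun Y => ?_).symm
  rw [mem_centralizer_singleton_iff]
  show _ ↔ (QuotientGroup.mk' _) Y ∈ _
  rw [mem_centralizer_singleton_iff, ← map_mul, ← map_mul]
  exact ⟨fun h => congrArg _ h, fun h => H62.PU.toPSL_injective F h⟩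

theorem centralizer_sq {s a : P2} (hs : s ≠ 1) (hs2 : s * s = 1)
    (ha : a ∈ centralizer ({s} : Set P2)) : a * a = 1 :=
  H62.PU.psl_exponent ((H62.PU.psl_centralizer_involution hs hs2).to_le (zpowers_le.2 ha))

/-- The number of four-groups. -/
theorem card_four (hev : 2 ∣ Fintype.card F) :
    6 * Nat.card {A : Subgroup P2 // Nat.card A = 4 ∧ ∀ a ∈ A, a * a = 1} =
      (Fintype.card F ^ 2 - 1) * (Fintype.card F - 2) := by
  classical
  haveI : Fintype P2 := Fintype.ofFinite _
  let Inv : Finset P2 := Finset.univ.filter fun a => a ≠ 1 ∧ a * a = 1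
  let T : Finset (P2 × P2) := Finset.univ.filter fun p => p.1 ∈ Inv ∧ p.2 ∈ Inv ∧ p.1 * p.2 = p.2 * p.1 ∧ p.1 ≠ p.2
  let 𝒜 : Finset (Subgroup P2) := Finset.univ.filter fun A => Nat.card A = 4 ∧ ∀ a ∈ A, a * a = 1
  have hA : Nat.card {A : Subgroup P2 // Nat.card A = 4 ∧ ∀ a ∈ A, a * a = 1} = 𝒜.card := by
    rw [Nat.card_eq_fintype_card, Fintype.card_subtype]
  -- involutions
  have hInv : Inv.card = Fintype.card F ^ 2 - 1 := by
    obtain ⟨s, hs⟩ := exists_prime_orderOf_dvd_card' (G := P2) 2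
      (by rw [H62.PU.psl_card]; exact hev.mul_right _)
    have hs1 : s ≠ 1 := fun e => by simp [e] at hs
    have hs2 : s * s = 1 := by rw [← pow_two]; exact orderOf_dvd_iff_pow_eq_one.1 hs.dvd
    have h := Linear.card_carrier_mul_card_centralizer s
    rw [card_centralizer_invol hs1 hs2, H62.PU.psl_card, mul_comm (Fintype.card F)] at h
    rw [← Nat.eq_of_mul_eq_mul_right (Fintype.card_pos) h, Nat.card_coe_set_eq,
      ← Set.ncard_coe_finset]
    congr 1
    ext a
    simp only [Inv, Finset.coe_filter, Finset.mem_univ, true_and, ConjClasses.mem_carrier_iff_mk_eq,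
      ConjClasses.mk_eq_mk_iff_isConj]
    constructor
    · rintro ⟨ha, ha2⟩
      obtain ⟨c, hc⟩ := H62.PU.psl_involutions_conj ha ha2 hs1 hs2
      exact isConj_iff.2 ⟨c, hc⟩
    · intro h
      obtain ⟨c, hc⟩ := isConj_iff.1 h
      refine ⟨fun e => hs1 (by rw [← hc, e]; group), ?_⟩
      calc a * a = c⁻¹ * ((c * a * c⁻¹) * (c * a * c⁻¹)) * c := by group
        _ = 1 := by rw [hc, hs2]; group
  -- pairs by first entry
  have hT1 : T.card = Inv.card * (Fintype.card F - 2) := by
    rw [Finset.card_eq_sum_card_fiberwise (f := Prod.fst) (t := Inv)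
      (fun p hp => (Finset.mem_filter.1 hp).2.1)]
    rw [Finset.sum_const_nat]
    intro a ha
    obtain ⟨-, ha1, ha2⟩ := Finset.mem_filter.1 ha
    have hC : ((Finset.univ.filter fun b => b ∈ centralizer ({a} : Set P2)) : Finset P2).card =
        Fintype.card F := by
      rw [← card_centralizer_invol ha1 ha2, Nat.card_eq_fintype_card, Fintype.card_subtype]
    have hsub : ({1, a} : Finset P2) ⊆
        Finset.univ.filter fun b => b ∈ centralizer ({a} : Set P2) := by
      intro b hb
      simp only [Finset.mem_insert, Finset.mem_singleton] at hb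
      rcases hb with rfl | rfl <;> simp [mem_centralizer_singleton_iff]
    rw [show Fintype.card F - 2 = Fintype.card F - ({1, a} : Finset P2).card by
      rw [Finset.card_pair ha1.symm], ← hC, ← Finset.card_sdiff_of_subset hsub]
    refine Finset.card_bij (fun p _ => p.2) ?_ ?_ ?_
    · intro p hp
      simp only [T, Inv, Finset.mem_filter, Finset.mem_univ, true_and] at hp
      obtain ⟨⟨-, ⟨hb1, -⟩, hc, hne⟩, rfl⟩ := hp
      simp [mem_centralizer_singleton_iff, hc, hb1, hne.symm]
    · intro p hp p' hp' h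
      simp only [Finset.mem_filter] at hp hp'
      exact Prod.ext (hp.2.trans hp'.2.symm) h
    · intro b hb
      simp only [Finset.mem_sdiff, Finset.mem_filter, Finset.mem_univ, true_and, Finset.mem_insert,
        Finset.mem_singleton, not_or] at hb
      refine ⟨(a, b), ?_, rfl⟩
      simp only [T, Inv, Finset.mem_filter, Finset.mem_univ, true_and]
      exact ⟨⟨⟨ha1, ha2⟩, ⟨hb.2.1, centralizer_sq ha1 ha2 hb.1⟩,
        (mem_centralizer_singleton_iff.1 hb.1).symm, fun e => hb.2.2 e.symm⟩, trivial⟩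
  -- pairs by subgroup
  have hgen : ∀ A ∈ 𝒜, ∀ a ∈ A, ∀ b ∈ A, a ≠ 1 → b ≠ 1 → a ≠ b → closure ({a, b} : Set P2) = A := by
    intro A hA a ha b hb ha1 hb1 hab
    have hle : closure ({a, b} : Set P2) ≤ A :=
      (closure_le _).2 (Set.insert_subset ha (Set.singleton_subset_iff.2 hb))
    refine eq_of_le_of_card_ge hle ?_
    obtain ⟨-, h4, -⟩ := Finset.mem_filter.1 hA
    have h3 : 3 ≤ Nat.card (closure ({a, b} : Set P2)) := by
      have := Set.ncard_le_ncard (s := ({1, a, b} : Set P2))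
        (t := (closure ({a, b} : Set P2) : Set P2)) (Set.insert_subset (one_mem _) subset_closure)
      rwa [Set.ncard_eq_three.2 ⟨1, a, b, ha1.symm, hb1.symm, hab, rfl⟩,
        ← Nat.card_coe_set_eq] at this
    have hd := card_dvd_of_le hle
    rw [h4] at hd ⊢
    have h44 := Nat.le_of_dvd (by norm_num) hd
    by_contra hlt
    interval_cases (Nat.card (closure ({a, b} : Set P2)))
    omega
  have hT2 : T.card = 6 * 𝒜.card := by
    rw [Finset.card_eq_sum_card_fiberwise (f := fun p => closure ({p.1, p.2} : Set P2)) (t := 𝒜) ?_,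
      Finset.sum_const_nat, mul_comm]
    · intro A hA
      have hE : (((Finset.univ.filter fun a => a ∈ A) : Finset P2).erase 1).card = 3 := by
        rw [Finset.card_erase_of_mem (by simp), ← Fintype.card_subtype, ← Nat.card_eq_fintype_card,
          (Finset.mem_filter.1 hA).2.1]
      trans ((((Finset.univ.filter fun a => a ∈ A) : Finset P2).erase 1).offDiag).card
      · congr 1
        ext p
        simp only [T, Inv, Finset.mem_filter, Finset.mem_univ, true_and, Finset.mem_offDiag,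
          Finset.mem_erase]
        constructor
        · rintro ⟨⟨⟨h1, -⟩, ⟨h2, -⟩, -, hne⟩, hcl⟩
          exact ⟨⟨h1, hcl ▸ subset_closure (Or.inl rfl)⟩,
            ⟨h2, hcl ▸ subset_closure (Or.inr rfl)⟩, hne⟩
        · rintro ⟨⟨h1, hp1⟩, ⟨h2, hp2⟩, hne⟩
          have hsq := (Finset.mem_filter.1 hA).2.2
          refine ⟨⟨⟨h1, hsq _ hp1⟩, ⟨h2, hsq _ hp2⟩, ?_, hne⟩, hgen A hA _ hp1 _ hp2 h1 h2 hne⟩
          have hi : ∀ x ∈ A, x⁻¹ = x := fun x hx => inv_eq_of_mul_eq_one_right (hsq x hx)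
          rw [← hi _ (mul_mem hp1 hp2), mul_inv_rev, hi _ hp1, hi _ hp2]
      · rw [Finset.offDiag_card, hE]
    · intro p hp
      simp only [T, Inv, Finset.mem_coe, Finset.mem_filter, Finset.mem_univ, true_and] at hp
      obtain ⟨⟨h1, h1'⟩, ⟨h2, h2'⟩, hc, hne⟩ := hp
      obtain ⟨V, hV4, hVmem, hV2⟩ := H19.Fixity.exists_klein h1' h2' hc h1 h2 hne
      have hVA : V ∈ 𝒜 := Finset.mem_filter.2 ⟨Finset.mem_univ _, hV4, hV2⟩
      show closure ({p.1, p.2} : Set P2) ∈ (𝒜 : Set (Subgroup P2))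
      rw [hgen V hVA _ ((hVmem _).2 (Or.inr (Or.inl rfl))) _
        ((hVmem _).2 (Or.inr (Or.inr (Or.inl rfl)))) h1 h2 hne]
      exact hVA
  rw [hA, ← hT2, hT1, hInv]

/-- The orbit bound. -/
theorem even_bound (h : AbConj P2) {n : ℕ} (hn : 2 ≤ n) (hF : Fintype.card F = 2 ^ n) :
    n = 2 ∨ n = 3 ∨ n = 5 := by
  classical
  haveI : Fact (Nat.Prime 2) := ⟨Nat.prime_two⟩
  set q := Fintype.card F with hq
  have hev : 2 ∣ q := hF ▸ dvd_pow_self 2 (by omega)
  have h4 : 4 ≤ q := hF ▸ le_of_eq_of_le (by norm_num) (Nat.pow_le_pow_right two_pos hn)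
  haveI : IsSimpleGroup P2 :=
    Linear.isSimpleGroup_PSL_fin le_rfl fun _ => by rwa [Nat.card_eq_fintype_card]
  obtain ⟨x0, y0, hxy⟩ : ∃ a b : P2, a * b ≠ b * a := by
    refine Linear.exists_not_commute_PSL (Or.inr ?_)
    by_contra hc
    push Not at hc
    have hle : (Finset.univ : Finset F) ⊆ {0, 1} := fun a _ => by
      simp only [Finset.mem_insert, Finset.mem_singleton]
      refine (em (a = 0)).imp id fun h0 => ?_
      have h2 : (2 : F) = 0 := CharTwo.two_eq_zero
      have : (a - 1) ^ 2 = 0 := by linear_combination hc a h0 + (1 - a) * h2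
      exact sub_eq_zero.1 (eq_zero_of_pow_eq_zero this)
    have := (Finset.card_le_card hle).trans Finset.card_le_two
    rw [Finset.card_univ] at this
    omega
  have hconj : Function.Injective (MulAut.conj : P2 →* MulAut P2) := by
    rw [← MonoidHom.ker_eq_bot_iff]
    refine (MonoidHom.normal_ker _).eq_bot_or_eq_top.resolve_right fun htop => hxy ?_
    have := DFunLike.congr_fun (show MulAut.conj x0 = 1 from
      (MonoidHom.mem_ker).1 (htop ▸ mem_top x0)) y0
    rw [MulAut.conj_apply, MulAut.one_apply] at this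
    exact mul_inv_eq_iff_eq_mul.1 this
  have haut : Nat.card (MulAut P2) = q * (q ^ 2 - 1) * n := by
    obtain ⟨φ, hφ, -, hker⟩ := Cfsg.Agent.S2602.result (F := F) (p := 2) (by omega : 1 ≤ n) hF
      (hF ▸ h4)
    have hgcd : Nat.gcd 2 (2 ^ n - 1) = 1 := by
      refine (Nat.prime_two.coprime_iff_not_dvd).2 fun h2 => ?_
      have : 2 ∣ 2 ^ n := dvd_pow_self 2 (by omega)
      have := Nat.one_le_two_pow (n := n)
      omega
    have hout : Nat.card (Cfsg.Out P2) = n := by
      rw [← φ.ker.card_mul_index, hker, hgcd, one_mul,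
        Subgroup.index_ker, MonoidHom.range_eq_top.2 hφ, card_top, Nat.card_congr Multiplicative.toAdd,
        Nat.card_zmod]
    rw [Subgroup.card_eq_card_quotient_mul_card_subgroup (Cfsg.Inn P2), hout,
      ← Nat.card_congr (MonoidHom.ofInjective hconj).toEquiv, H62.PU.psl_card, mul_comm]
  -- the four-groups form one orbit
  let 𝒜 : Set (Subgroup P2) := {A | Nat.card A = 4 ∧ ∀ a ∈ A, a * a = 1}
  have hcard : 6 * Nat.card 𝒜 = (q ^ 2 - 1) * (q - 2) := card_four hev
  have hpos : 0 < Nat.card 𝒜 := by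
    by_contra hc
    rw [Nat.eq_zero_of_not_pos hc, mul_zero] at hcard
    rcases Nat.mul_eq_zero.1 hcard.symm with h0 | h0
    · have : 16 ≤ q ^ 2 := by nlinarith
      omega
    · omega
  obtain ⟨⟨A₀, hA₀⟩⟩ : Nonempty 𝒜 := (Nat.card_pos_iff.1 hpos).1
  have hA4 : Nat.card A₀ = 4 := hA₀.1
  have hpg : ∀ A ∈ 𝒜, IsPGroup 2 A ∧ IsMulCommutative A := fun A hA =>
    ⟨IsPGroup.of_card (n := 2) hA.1, ⟨⟨fun a b => Subtype.ext (by
      have hi : ∀ x ∈ A, x⁻¹ = x := fun x hx => inv_eq_of_mul_eq_one_right (hA.2 x hx)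
      show (a : P2) * b = b * a
      rw [← hi _ (mul_mem a.2 b.2), mul_inv_rev, hi _ a.2, hi _ b.2])⟩⟩⟩
  have horb : MulAction.orbit (MulAut P2) A₀ = 𝒜 := by
    ext A
    rw [MulAction.mem_orbit_iff]
    constructor
    · rintro ⟨α, rfl⟩
      refine ⟨(card_map_of_injective α.injective).trans hA4, ?_⟩
      rintro _ ⟨a, ha, rfl⟩
      show α a * α a = 1
      rw [← map_mul, hA₀.2 a ha, map_one]
    · intro hA
      obtain ⟨α, hα⟩ := h 2 Nat.prime_two A₀ A (hpg _ hA₀).1 (hpg _ hA).1 (hpg _ hA₀).2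
        (hpg _ hA).2 (hA4.trans hA.1.symm)
      exact ⟨α, hα.symm⟩
  -- the stabiliser
  obtain ⟨⟨a, ha⟩, ha1⟩ : ∃ a : A₀, a ≠ 1 := by
    haveI : Nontrivial A₀ := Finite.one_lt_card_iff_nontrivial.1 (by rw [hA4]; norm_num)
    exact exists_ne 1
  have ha1' : a ≠ 1 := fun e => ha1 (Subtype.ext e)
  have ha2 : a * a = 1 := hA₀.2 a ha
  set C := centralizer ({a} : Set P2) with hC
  have hCA : A₀ ≤ C := fun b hb => by
    rw [hC, mem_centralizer_singleton_iff]
    exact congrArg Subtype.val ((hpg _ hA₀).2.is_comm.comm ⟨b, hb⟩ ⟨a, ha⟩)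
  have hCc : ∀ c ∈ C, ∀ b ∈ C, c * b = b * c := fun c hc b hb => by
    have hi : ∀ x ∈ C, x⁻¹ = x := fun x hx =>
      inv_eq_of_mul_eq_one_right (centralizer_sq ha1' ha2 hx)
    rw [← hi _ (mul_mem hc hb), mul_inv_rev, hi _ hc, hi _ hb]
  have hle : C.map MulAut.conj ≤ MulAction.stabilizer (MulAut P2) A₀ := by
    rintro _ ⟨c, hc, rfl⟩
    rw [MulAction.mem_stabilizer_iff]
    ext x
    rw [Subgroup.mem_pointwise_smul_iff_inv_smul_mem]
    have hfix : ∀ b ∈ A₀, c * b * c⁻¹ = b := fun b hb => by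
      rw [hCc c hc b (hCA hb), mul_inv_cancel_right]
    constructor
    · intro hx
      rw [MulAut.smul_def, MulAut.inv_def, MulAut.conj_symm_apply] at hx
      have := hfix _ hx
      rw [show c * (c⁻¹ * x * c) * c⁻¹ = x by group] at this
      exact this ▸ hx
    · intro hx
      rw [MulAut.smul_def, MulAut.inv_def, MulAut.conj_symm_apply]
      rwa [show c⁻¹ * x * c = x by
        conv_lhs => rw [← hfix x hx]
        group]
  have hstab : q ∣ Nat.card (MulAction.stabilizer (MulAut P2) A₀) := by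
    refine dvd_trans (dvd_of_eq ?_) (card_dvd_of_le hle)
    rw [card_map_of_injective hconj, hC, card_centralizer_invol ha1' ha2]
  obtain ⟨r, hr⟩ := hstab
  have horbcard : Nat.card 𝒜 * Nat.card (MulAction.stabilizer (MulAut P2) A₀) = q * (q ^ 2 - 1) * n := by
    rw [← haut, ← horb, Nat.card_coe_set_eq, ← MulAction.index_stabilizer, mul_comm,
      Subgroup.card_mul_index]
  rw [hr] at horbcard
  have hNr : Nat.card 𝒜 * r = (q ^ 2 - 1) * n := by
    refine Nat.eq_of_mul_eq_mul_left (show 0 < q by omega) ?_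
    calc q * (Nat.card 𝒜 * r) = Nat.card 𝒜 * (q * r) := by ring
      _ = _ := by rw [horbcard]; ring
  have hbound : q - 2 ≤ 6 * n := by
    have h15 : 0 < q ^ 2 - 1 := by
      have : 16 ≤ q ^ 2 := by nlinarith
      omega
    refine Nat.le_of_mul_le_mul_left ?_ h15
    rw [← hcard, mul_left_comm, ← hNr]
    refine Nat.mul_le_mul_left 6 (Nat.le_mul_of_pos_right _ ?_)
    by_contra h0
    rw [Nat.eq_zero_of_not_pos h0, mul_zero] at hNr
    rcases Nat.mul_eq_zero.1 hNr.symm with h | h <;> omega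
  have hn6 : n < 6 := by
    by_contra hc
    have : ∀ k, 6 * (k + 6) + 2 < 2 ^ (k + 6) := by
      intro k
      induction k with
      | zero => norm_num
      | succ k ih => rw [show k + 1 + 6 = (k + 6) + 1 by ring, pow_succ]; omega
    have := this (n - 6)
    rw [show n - 6 + 6 = n by omega, ← hF] at this
    omega
  interval_cases n
  · exact Or.inl rfl
  · exact Or.inr (Or.inl rfl)
  · exfalso
    generalize Nat.card 𝒜 = N at hcard hNr
    rw [show q = 16 from hF] at hcard hNr
    norm_num at hcard hNr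
    have h595 : N = 595 := by omega
    rw [h595] at hNr
    omega
  · exact Or.inr (Or.inr rfl)

end PSL

end Cfsg.Agent.H93.CosylConj
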