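import Cfsg.Agent.H93.CosylConj.Main
import Cfsg.Agent.S4023

/-!
# The statements S3914 and S4020 from Walter, Ward and the type R centraliser
-/

set_option autoImplicit false

namespace Cfsg.Agent.H93.CosylConj

open Subgroup

universe u

variable (hW : H10.Walter.WalterHyp.{u}) (hR : H28.WardCons.TypeRCentralizer.{u})
  (hWard : H28.WardCons.WardHyp.{u}) {G : Type u} [Group G] [Finite G]

include hW hR hWard

/-- Simple normal subgroups when abelian subgroups of equal order are conjugate (S3914). -/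
theorem simple_normal (hB : ∀ A B : Subgroup G, IsMulCommutative ↥A → IsMulCommutative ↥B →
      Nat.card ↥A = Nat.card ↥B → ∃ g : G, B = A.map (MulAut.conj g).toMonoidHom)
    (M : Subgroup G) [M.Normal] (hs : IsSimpleGroup ↥M) (hna : ¬ IsMulCommutative ↥M) :
    (∃ (F : Type) (_ : Field F) (_ : Fintype F),
        (Fintype.card F = 2 ^ 2 ∨ Fintype.card F = 2 ^ 3 ∨ Fintype.card F = 2 ^ 5) ∧
        Nonempty (↥M ≃* Matrix.SpecialLinearGroup (Fin 2) F)) ∨
    (∃ (F : Type) (_ : Field F) (_ : Fintype F), 5 ≤ Fintype.card F ∧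
        (Fintype.card F % 8 = 3 ∨ Fintype.card F % 8 = 5) ∧
        Nonempty (↥M ≃* Matrix.ProjectiveSpecialLinearGroup (Fin 2) F)) ∨
    Cfsg.Spor.IsoJ1 ↥M := by
  haveI := hs
  rcases simple_cases hW hR hWard hna
    (AbConj.of_normal (fun p _ A B _ _ cA cB hc => hB A B cA cB hc) M) with h | h | h
  · exact Or.inr (Or.inl h)
  · exact Or.inl h
  · exact Or.inr (Or.inr h.2)

/-- Sylow subgroups when `p`-subgroups of equal order are conjugate (S4020). -/
theorem sylow_structure (hD : ∀ p : ℕ, p.Prime → ∀ H K : Subgroup G, IsPGroup p H → IsPGroup p K →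
      Nat.card H = Nat.card K → ∃ g : G, K = H.map (MulAut.conj g).toMonoidHom)
    {p : ℕ} [hp : Fact p.Prime] (P : Sylow p G) :
    IsCyclic P ∨ Cfsg.IsElementaryAbelian p (P : Subgroup G) ∨
      Nonempty ((P : Subgroup G) ≃* QuaternionGroup 2) := by
  rcases S4023.result (fun H K h1 h2 h3 => hD p hp.out H K h1 h2 h3) P with
    h | h | ⟨-, h⟩ | ⟨hp2, hnc, -, hexp⟩
  · exact Or.inl h
  · exact Or.inr (Or.inl h)
  · exact Or.inr (Or.inr h)
  · exact absurd (no_extraspecial hW hR hWard (G := G) hD hp2 P fun x hx => by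
      have := Monoid.pow_exponent_eq_one (⟨x, hx⟩ : ↥(P : Subgroup G))
      rw [hexp] at this
      exact congrArg Subtype.val this) hnc

end Cfsg.Agent.H93.CosylConj
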