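import Cfsg.Agent.Linear.Dickson.Scaled
import Cfsg.Agent.H55.SLTwoClasses

/-!
# Elements of order three of `PSL₂(3 ^ odd)`
-/

set_option autoImplicit false

namespace Cfsg.Agent.H93.CosylConj

open Matrix Cfsg.Agent.Linear Cfsg.Agent.Linear.Dickson Cfsg.Agent.H55

variable {F : Type*} [Field F]

local notation "S2" => Matrix.SpecialLinearGroup (Fin 2) F
local notation "P2" => Matrix.ProjectiveSpecialLinearGroup (Fin 2) F

/-- The upper unitriangular homomorphism. -/
noncomputable def uHom : Multiplicative F →* P2 where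
  toFun a := toPSL (upSL (Multiplicative.toAdd a))
  map_one' := by
    rw [toAdd_one, upSL_zero]
    exact map_one (QuotientGroup.mk' _)
  map_mul' a b := by
    rw [toAdd_mul, upSL_add]
    exact map_mul (QuotientGroup.mk' _) _ _

theorem uHom_apply (a : F) : uHom (Multiplicative.ofAdd a) = toPSL (upSL a) := rfl

variable [Fintype F] [CharP F 3]

theorem uHom_injective : Function.Injective (uHom : Multiplicative F →* P2) := by
  refine (injective_iff_map_eq_one _).2 fun a ha => ?_
  obtain ⟨a, rfl⟩ := Multiplicative.ofAdd.surjective a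
  rw [uHom_apply, toPSL_two_eq_one_iff] at ha
  rcases ha with h | h
  · have := congrArg (fun X : S2 => (X : Matrix (Fin 2) (Fin 2) F) 0 1) h
    simp [upSL_coe] at this
    simp [this]
  · have := congrArg (fun X : S2 => (X : Matrix (Fin 2) (Fin 2) F) 0 0) h
    simp [upSL_coe] at this
    have h3 : (3 : F) = 0 := CharP.cast_eq_zero F 3
    exact absurd (show (1 : F) = 0 by linear_combination h3 - this) one_ne_zero

theorem multiplicative_pow_three (a : Multiplicative F) : a ^ 3 = 1 := by
  apply Multiplicative.toAdd.injective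
  rw [toAdd_pow, toAdd_one, nsmul_eq_mul, CharP.cast_eq_zero F 3, zero_mul]

/-- Two classes of elements of order three, exchanged by inversion. -/
theorem conj_u_one (h4 : Fintype.card F % 4 = 3) {y : P2} (hy3 : y ^ 3 = 1) (hy1 : y ≠ 1) :
    IsConj (toPSL (upSL (1 : F))) y ∨ IsConj (toPSL (upSL (1 : F)))⁻¹ y := by
  haveI : Fact (Nat.Prime 3) := ⟨Nat.prime_three⟩
  obtain ⟨X, rfl⟩ : ∃ X : S2, toPSL X = y := QuotientGroup.mk'_surjective _ y
  rw [← map_pow, toPSL_two_eq_one_iff] at hy3
  obtain ⟨Z, hZ, hZ3⟩ : ∃ Z : S2, toPSL Z = toPSL X ∧ Z ^ 3 = 1 := by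
    rcases hy3 with h | h
    · exact ⟨X, rfl, h⟩
    · refine ⟨-X, (toPSL_two_eq_iff _ _).2 (Or.inr rfl), ?_⟩
      rw [show (-X) ^ 3 = -(X ^ 3) by
        simp [pow_succ], h, neg_neg]
  rw [← hZ] at hy1 ⊢
  obtain ⟨b, hb, hc⟩ := exists_conj_upSL (not_scalar_of_ne_one hy1)
    ((pow_char_eq_one_iff 3 Z).1 hZ3)
  have hc' : IsConj (toPSL (upSL b)) (toPSL Z) := (QuotientGroup.mk' (Subgroup.center S2)).map_isConj hc
  by_cases hs : IsSquare b
  · left
    exact ((QuotientGroup.mk' (Subgroup.center S2)).map_isConj ((isConj_upSL_iff_isSquare one_ne_zero hb).2 (by rwa [one_mul]))).trans hc'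
  · right
    rw [← map_inv, ← upSL_neg]
    refine ((QuotientGroup.mk' (Subgroup.center S2)).map_isConj ((isConj_upSL_iff_isSquare (neg_ne_zero.2 one_ne_zero) hb).2 ?_)).trans hc'
    have hn1 : ¬ IsSquare (-1 : F) := by
      rw [FiniteField.isSquare_neg_one_iff]
      omega
    classical
    have h2 : ringChar F ≠ 2 := by rw [ringChar.eq F 3]; omega
    rw [← quadraticChar_one_iff_isSquare (mul_ne_zero (neg_ne_zero.2 one_ne_zero) hb), map_mul,
      quadraticChar_neg_one_iff_not_isSquare.2 hn1, quadraticChar_neg_one_iff_not_isSquare.2 hs]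
    norm_num

end Cfsg.Agent.H93.CosylConj
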