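import Cfsg.Agent.H93.CosylConj.Basic
import Cfsg.Agent.H93.CosylConj.PSLThree
import Cfsg.Agent.Linear.TwoClasses
import Cfsg.Agent.H84.FrobeniusCount

/-!
# A group of Ree type order has abelian 3-subgroups of equal order not related by automorphisms
-/

set_option autoImplicit false

namespace Cfsg.Agent.H93.CosylConj

open Subgroup

universe u

/-- The arithmetic: `k * s + 1` is not divisible by `q ^ 3` for a class size `s`. -/
theorem ree_arith {q s r k : ℕ} (hq : 4 ≤ q) (hk : k = 1 ∨ k = 2)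
    (hsr : s * r = (q ^ 3 + 1) * (q - 1)) (hdvd : q ^ 3 ∣ k * s + 1) : False := by
  obtain ⟨a, ha⟩ := hdvd
  obtain ⟨w, rfl⟩ : ∃ w, q = w + 1 := ⟨q - 1, by omega⟩
  simp only [Nat.add_sub_cancel] at hsr
  set C := (w + 1) ^ 3 with hC
  have hC3 : 16 * (w + 1) ≤ C := by
    have : 16 ≤ (w + 1) ^ 2 := by nlinarith
    rw [hC, pow_succ (w + 1) 2]
    exact Nat.mul_le_mul_right _ this
  have key : C * (a * r) = r + k * (C + 1) * w := by
    calc C * (a * r) = (k * s + 1) * r := by rw [ha]; ring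
      _ = r + k * (s * r) := by ring
      _ = r + k * (C + 1) * w := by rw [hsr]; ring
  have hks : C ≤ k * s + 1 := by
    rcases Nat.eq_zero_or_pos a with rfl | hpos
    · simp at ha
    · rw [ha]; exact Nat.le_mul_of_pos_right _ hpos
  have hr : r < 4 * (w + 1) := by
    by_contra hc
    have h1 : (C - 1) * (4 * (w + 1)) ≤ k * s * r :=
      Nat.mul_le_mul (by omega) (not_lt.1 hc)
    rw [mul_assoc, hsr] at h1
    have h2 : k * ((C + 1) * w) ≤ 2 * ((C + 1) * w) := Nat.mul_le_mul_right _ (by omega)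
    obtain ⟨c, hc'⟩ : ∃ c, C = c + 1 := ⟨C - 1, by omega⟩
    rw [hc'] at h1 h2
    simp only [Nat.add_sub_cancel] at h1
    nlinarith
  have hlt : r + k * w < C := by
    rcases hk with rfl | rfl <;> omega
  have hmod : C ∣ r + k * w := by
    have h2 : r + k * (C + 1) * w = r + k * w + C * (k * w) := by ring
    rw [h2] at key
    exact (Nat.dvd_add_left (Dvd.intro (k * w) rfl)).1 (key ▸ Dvd.intro _ rfl)
  have h0 := Nat.eq_zero_of_dvd_of_lt hmod hlt
  have : w ≠ 0 := by omega
  rcases hk with rfl | rfl <;> omega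

variable {X : Type u} [Group X] [Finite X]

theorem no_ree (hA : AbConj X)
    (hone : ∀ a b : X, orderOf a = 2 → orderOf b = 2 → IsConj a b) {t : X} (ht : orderOf t = 2)
    {F : Type} [Field F] [Fintype F]
    (e : centralizer ({t} : Set X) ≃*
      Multiplicative (ZMod 2) × Matrix.ProjectiveSpecialLinearGroup (Fin 2) F)
    {m : ℕ} (hm : 1 ≤ m) (hF : Fintype.card F = 3 ^ (2 * m + 1))
    (hX : Nat.card X =
      (3 ^ (2 * m + 1)) ^ 3 * ((3 ^ (2 * m + 1)) ^ 3 + 1) * (3 ^ (2 * m + 1) - 1)) : False := by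
  classical
  haveI : Fact (Nat.Prime 3) := ⟨Nat.prime_three⟩
  haveI : CharP F 3 := by
    obtain ⟨r, hr⟩ := CharP.exists F
    obtain ⟨k, hrp, hk⟩ := FiniteField.card F r
    have : r ∣ 3 := hrp.dvd_of_dvd_pow (n := 2 * m + 1) (by
      rw [← hF, hk]; exact dvd_pow_self r k.ne_zero)
    rwa [(Nat.prime_dvd_prime_iff_eq hrp Nat.prime_three).1 this] at hr
  have h4 : Fintype.card F % 4 = 3 := by
    rw [hF, pow_succ, pow_mul, Nat.mul_mod, Nat.pow_mod]
    norm_num
  have h27 : 27 ≤ 3 ^ (2 * m + 1) :=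
    le_of_eq_of_le (by norm_num) (Nat.pow_le_pow_right (by norm_num : 1 ≤ 3) (show 3 ≤ 2 * m + 1 by omega))
  let ι : Matrix.ProjectiveSpecialLinearGroup (Fin 2) F →* X :=
    (centralizer ({t} : Set X)).subtype.comp (e.symm.toMonoidHom.comp (MonoidHom.inr _ _))
  have hι : Function.Injective ι := fun a b h =>
    (congrArg Prod.snd (e.symm.injective (Subtype.ext h :
      e.symm (1, a) = e.symm (1, b))) :)
  set u1 : X := ι (QuotientGroup.mk' _ (Cfsg.Agent.Linear.upSL (1 : F))) with hu1
  let ν : Multiplicative F →* X := ι.comp uHom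
  have hν : Function.Injective ν := hι.comp uHom_injective
  -- exponent three
  have hexp : ∀ x : X, ∀ k : ℕ, x ^ 3 ^ k = 1 → x ^ 3 = 1 := by
    intro x k hx
    refine hA.pow_eq_one Nat.prime_three (K := ν.range) ?_ ?_ ?_ hx
    · rintro _ ⟨a, rfl⟩ _ ⟨b, rfl⟩
      rw [← map_mul, ← map_mul, mul_comm]
    · rintro _ ⟨a, rfl⟩
      rw [← map_pow, multiplicative_pow_three, map_one]
    · rw [← Nat.card_congr (MonoidHom.ofInjective hν).toEquiv,
        Nat.card_congr Multiplicative.toAdd, Nat.card_eq_fintype_card, hF]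
      omega
  have hu3 : orderOf u1 = 3 := by
    refine orderOf_eq_prime ?_ ?_
    · show ν (Multiplicative.ofAdd 1) ^ 3 = 1
      rw [← map_pow, multiplicative_pow_three, map_one]
    · intro h
      have h1 : Multiplicative.ofAdd (1 : F) = 1 := hν (h.trans (map_one ν).symm)
      exact one_ne_zero (α := F) (congrArg Multiplicative.toAdd h1)
  -- two classes
  have hcls : ∀ x : X, orderOf x = 3 → IsConj u1 x ∨ IsConj u1⁻¹ x := by
    intro x hx
    obtain ⟨α, hα⟩ := hA.exists_aut Nat.prime_three hu3 hx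
    have hcomm : Commute (α t) x := by
      obtain ⟨j, rfl⟩ := mem_zpowers_iff.1 hα
      refine Commute.zpow_right (?_ : Commute (α t) (α u1)) j
      exact (Commute.map (Commute.symm (mem_centralizer_singleton_iff.1
        (e.symm (1, QuotientGroup.mk' _ (Cfsg.Agent.Linear.upSL (1 : F)))).2)) α.toMonoidHom :)
    obtain ⟨g, hg⟩ := isConj_iff.1 (hone (α t) t (by rw [MulEquiv.orderOf_eq, ht]) ht)
    have hmem : g * x * g⁻¹ ∈ centralizer ({t} : Set X) := by
      rw [mem_centralizer_singleton_iff, ← hg]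
      have := (hcomm.map (MulAut.conj g).toMonoidHom).eq
      exact this.symm
    set y := e ⟨g * x * g⁻¹, hmem⟩ with hy
    have hy3 : y ^ 3 = 1 := by
      rw [hy, ← map_pow, show (⟨g * x * g⁻¹, hmem⟩ : centralizer ({t} : Set X)) ^ 3 = 1 from
        Subtype.ext (by simp [conj_pow, ← hx, pow_orderOf_eq_one]), map_one]
    have hy1 : y.1 = 1 := by
      have h := congrArg Prod.fst hy3
      simp only [Prod.pow_fst, Prod.fst_one] at h
      have h2 : ∀ a : Multiplicative (ZMod 2), a ^ 3 = 1 → a = 1 := by decide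
      exact h2 _ h
    have hx' : ι y.2 = g * x * g⁻¹ := by
      show ((e.symm (1, y.2) : centralizer ({t} : Set X)) : X) = _
      rw [← hy1, hy, Prod.mk.eta, MulEquiv.symm_apply_apply]
    have hne : y.2 ≠ 1 := fun h => by
      rw [h, map_one] at hx'
      have : x = 1 := by
        rw [show x = g⁻¹ * (g * x * g⁻¹) * g by group, ← hx']
        group
      rw [this, orderOf_one] at hx
      omega
    have hconj : IsConj (g * x * g⁻¹) x := (isConj_iff.2 ⟨g, rfl⟩).symm
    rcases conj_u_one h4 (congrArg Prod.snd hy3) hne with h | h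
    · exact Or.inl ((hx' ▸ ι.map_isConj h).trans hconj)
    · refine Or.inr ((hx' ▸ ?_ : IsConj u1⁻¹ (g * x * g⁻¹)).trans hconj)
      rw [hu1, ← map_inv]
      exact ι.map_isConj h
  -- centraliser orders
  set s := Nat.card (ConjClasses.mk u1).carrier with hs
  set Z := Nat.card (centralizer ({u1} : Set X)) with hZdef
  have hsZ : s * Z = Nat.card X := Cfsg.Agent.Linear.card_carrier_mul_card_centralizer u1
  set q := 3 ^ (2 * m + 1) with hqdef
  obtain ⟨P⟩ : Nonempty (Sylow 3 X) := inferInstance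
  have hP : q ^ 3 ∣ Nat.card P := by
    rw [hqdef, ← pow_mul]
    exact P.pow_dvd_card_of_pow_dvd_card (by rw [hX, ← pow_mul, mul_assoc]; exact Dvd.intro _ rfl)
  have h3q : 3 ∣ q ^ 3 := by rw [hqdef, ← pow_mul]; exact dvd_pow_self 3 (by omega)
  have hP3 : 3 ∣ Nat.card P := h3q.trans hP
  haveI : Nontrivial P := Finite.one_lt_card_iff_nontrivial.1
    (lt_of_lt_of_le (by norm_num) (Nat.le_of_dvd Nat.card_pos hP3))
  haveI := P.2.center_nontrivial
  obtain ⟨z, hz1⟩ := exists_ne (1 : Subgroup.center (P : Subgroup X))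
  have hz : orderOf ((z : P) : X) = 3 := by
    obtain ⟨k, hk⟩ := P.2 (z : P)
    refine orderOf_eq_prime (hexp _ k (by rw [← SubmonoidClass.coe_pow, hk, OneMemClass.coe_one]))
      fun h => hz1 (Subtype.ext (Subtype.ext h))
  have hle : (P : Subgroup X) ≤ centralizer ({((z : P) : X)} : Set X) := fun a ha => by
    rw [mem_centralizer_singleton_iff]
    exact congrArg Subtype.val (Subgroup.mem_center_iff.1 z.2 ⟨a, ha⟩)
  have hinvc : centralizer ({u1⁻¹} : Set X) = centralizer ({u1} : Set X) := by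
    ext a
    simp only [mem_centralizer_singleton_iff]
    exact ⟨fun (h : Commute a u1⁻¹) => Commute.inv_right_iff.1 h,
      fun (h : Commute a u1) => Commute.inv_right_iff.2 h⟩
  have hconjcard : ∀ a b : X, IsConj a b →
      Nat.card (centralizer ({a} : Set X)) = Nat.card (centralizer ({b} : Set X)) := by
    intro a b hab
    have h1 := Cfsg.Agent.Linear.card_carrier_mul_card_centralizer a
    have h2 := Cfsg.Agent.Linear.card_carrier_mul_card_centralizer b
    rw [ConjClasses.mk_eq_mk_iff_isConj.2 hab] at h1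
    exact Nat.eq_of_mul_eq_mul_left (by
      haveI : Nonempty (ConjClasses.mk b).carrier := ⟨⟨b, ConjClasses.mem_carrier_mk⟩⟩
      exact Nat.card_pos) (h1.trans h2.symm)
  have hZq : q ^ 3 ∣ Z := by
    refine hP.trans ((card_dvd_of_le hle).trans (dvd_of_eq ?_))
    rcases hcls _ hz with h | h
    · exact (hconjcard _ _ h).symm
    · rw [← hconjcard _ _ h, hinvc]
  obtain ⟨r, hr⟩ := hZq
  have hsr : s * r = (q ^ 3 + 1) * (q - 1) := by
    refine Nat.eq_of_mul_eq_mul_left (show 0 < q ^ 3 by positivity) ?_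
    calc q ^ 3 * (s * r) = s * (q ^ 3 * r) := by ring
      _ = s * Z := by rw [hr]
      _ = _ := by rw [hsZ, hX, mul_assoc]
  -- count
  let A : Set X := (ConjClasses.mk u1).carrier
  let B : Set X := (ConjClasses.mk u1⁻¹).carrier
  have hsol : {x : X | x ^ q ^ 3 = 1} = insert 1 (A ∪ B) := by
    ext x
    simp only [Set.mem_setOf_eq, Set.mem_insert_iff, Set.mem_union, A, B,
      ConjClasses.mem_carrier_iff_mk_eq, ConjClasses.mk_eq_mk_iff_isConj]
    constructor
    · intro hx
      rw [hqdef, ← pow_mul] at hx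
      by_cases h1 : x = 1
      · exact Or.inl h1
      · exact Or.inr ((hcls x (orderOf_eq_prime (hexp x _ hx) h1)).imp IsConj.symm IsConj.symm)
    · rintro (rfl | h | h)
      · exact one_pow _
      all_goals
        obtain ⟨c, hc⟩ := isConj_iff.1 h
        have h3 : x ^ 3 = 1 := by
          rw [show x = c⁻¹ * (c * x * c⁻¹) * c by group, hc,
            show c⁻¹ = c⁻¹ * 1 by group, mul_one]
          nth_rw 2 [show c = c⁻¹⁻¹ by group]
          rw [conj_pow]
          simp [← hu3, pow_orderOf_eq_one]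
        obtain ⟨j, hj⟩ := h3q
        rw [hj, pow_mul, h3, one_pow]
  have hcount : q ^ 3 ∣ Nat.card {x : X // x ^ q ^ 3 = 1} :=
    H84.dvd_card_pow_eq_one (by rw [hX, mul_assoc]; exact Dvd.intro _ rfl)
  rw [show Nat.card {x : X // x ^ q ^ 3 = 1} = Set.ncard {x : X | x ^ q ^ 3 = 1} from
    (Nat.card_coe_set_eq _), hsol] at hcount
  have hne1 : (1 : X) ∉ A ∪ B := by
    simp only [Set.mem_union, A, B, ConjClasses.mem_carrier_iff_mk_eq,
      ConjClasses.mk_eq_mk_iff_isConj]
    rintro (h | h)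
    · exact absurd ((isConj_one_right.1 h : _) ▸ hu3) (by simp)
    · exact absurd ((inv_eq_one.1 (isConj_one_right.1 h)) ▸ hu3) (by simp)
  rw [Set.ncard_insert_of_notMem hne1] at hcount
  have hB : B.ncard = A.ncard := by
    rw [← Nat.card_coe_set_eq, ← Nat.card_coe_set_eq]
    have h1 := Cfsg.Agent.Linear.card_carrier_mul_card_centralizer u1⁻¹
    rw [hinvc, ← Cfsg.Agent.Linear.card_carrier_mul_card_centralizer u1] at h1
    exact Nat.eq_of_mul_eq_mul_right Nat.card_pos h1
  have hAs : A.ncard = s := (Nat.card_coe_set_eq _).symm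
  by_cases hAB : IsConj u1 u1⁻¹
  · have hEq : B = A := by rw [show B = (ConjClasses.mk u1⁻¹).carrier from rfl,
      ← ConjClasses.mk_eq_mk_iff_isConj.2 hAB]
    rw [hEq, Set.union_self, hAs] at hcount
    exact ree_arith (by omega) (Or.inl rfl) hsr (by rwa [one_mul])
  · have hdisj : Disjoint A B := Set.disjoint_left.2 fun x hxA hxB => hAB (by
      simp only [A, B, ConjClasses.mem_carrier_iff_mk_eq, ConjClasses.mk_eq_mk_iff_isConj] at hxA hxB
      exact hxA.symm.trans hxB)
    rw [Set.ncard_union_eq hdisj, hB, hAs, ← two_mul] at hcount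
    exact ree_arith (by omega) (Or.inr rfl) hsr hcount

end Cfsg.Agent.H93.CosylConj
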