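import Cfsg.Agent.H93.CosylConj.EvenPSL
import Cfsg.Agent.H93.CosylConj.ReeKill
import Cfsg.Agent.H28.WardCons.Basic
import Cfsg.Agent.H86.PSLSizes.PSLFacts
import Cfsg.Agent.S1644
import Cfsg.Agent.S0494
import Cfsg.Agent.Cores.PCore

/-!
# Groups with conjugate `p`-subgroups of equal order: the simple groups involved
-/

set_option autoImplicit false

namespace Cfsg.Agent.H93.CosylConj

open Subgroup

universe u

/-- The possible simple groups. -/
def Cases (X : Type u) [Group X] : Prop :=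
  H10.Walter.IsOddPSL X ∨
  (∃ (F : Type) (_ : Field F) (_ : Fintype F),
    (Fintype.card F = 2 ^ 2 ∨ Fintype.card F = 2 ^ 3 ∨ Fintype.card F = 2 ^ 5) ∧
      Nonempty (X ≃* Matrix.SpecialLinearGroup (Fin 2) F)) ∨
  (Cfsg.IsJ1 X ∧ Cfsg.Spor.IsoJ1 X)

theorem simple_cases (hW : H10.Walter.WalterHyp.{u}) (hR : H28.WardCons.TypeRCentralizer.{u})
    (hWard : H28.WardCons.WardHyp.{u}) {X : Type u} [Group X] [Finite X] [IsSimpleGroup X]
    (hna : ¬ IsMulCommutative X) (hA : AbConj X) : Cases X := by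
  have hab : H10.Walter.AbSyl X := fun T => hA.absyl hna T
  rcases hW X inferInstance hna hab with ⟨F, _, _, n, hn, hF, ⟨e⟩⟩ | h | hT
  · haveI := H62.PU.charP_two F hF
    have hc := even_bound (hA.congr e) hn hF
    refine Or.inr (Or.inl ⟨F, inferInstance, inferInstance, ?_,
      ⟨e.trans (H62.PU.pslEquiv F).symm⟩⟩)
    rcases hc with rfl | rfl | rfl
    exacts [Or.inl hF, Or.inr (Or.inl hF), Or.inr (Or.inr hF)]
  · exact Or.inl h
  · obtain ⟨t, F, _, _, ht, h5, -, ⟨e⟩⟩ := hR X inferInstance hna hab hT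
    rcases hWard X inferInstance (fun P a b => (hab P).1.comm a b) F (by omega) t ht ⟨e⟩ with
      ⟨m, hm, hF, hc⟩ | ⟨hF, hj⟩
    · exact (no_ree hA hT.2.1 ht e hm hF hc).elim
    · refine Or.inr (Or.inr ⟨hj, ?_⟩)
      haveI : IsSimpleGroup (Matrix.ProjectiveSpecialLinearGroup (Fin 2) F) :=
        Linear.isSimpleGroup_PSL_fin le_rfl fun _ => by rw [Nat.card_eq_fintype_card]; omega
      have h60 : Nat.card (Matrix.ProjectiveSpecialLinearGroup (Fin 2) F) = 60 := by
        have h := Linear.card_PSL_two_mul (F := F)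
        rcases hF with hF | hF <;> rw [hF] at h <;> norm_num at h <;> omega
      obtain ⟨e'⟩ := Cfsg.Agent.S0494.result h60
      obtain ⟨S⟩ : Nonempty (Sylow 2 X) := inferInstance
      exact Cfsg.Agent.S1644.result S (hab S) (hT.1 S) t ht
        (e.trans (MulEquiv.prodCongr (MulEquiv.refl _) e'))

/-- Odd Sylow subgroups of `PSL₂` are abelian. -/
theorem psl_sylow_comm {F : Type} [Field F] [Fintype F] {p : ℕ} [Fact p.Prime] (hp : p ≠ 2)
    (P : Sylow p (Matrix.ProjectiveSpecialLinearGroup (Fin 2) F)) :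
    IsMulCommutative ↥(P : Subgroup (Matrix.ProjectiveSpecialLinearGroup (Fin 2) F)) := by
  refine ⟨⟨fun a b => ?_⟩⟩
  haveI : Nontrivial ↥(P : Subgroup (Matrix.ProjectiveSpecialLinearGroup (Fin 2) F)) ∨
      Subsingleton ↥(P : Subgroup (Matrix.ProjectiveSpecialLinearGroup (Fin 2) F)) :=
    (subsingleton_or_nontrivial _).symm
  rcases this with hnt | hss
  · haveI := P.2.center_nontrivial
    obtain ⟨z, hz⟩ := exists_ne (1 : Subgroup.center ↥(P : Subgroup (Matrix.ProjectiveSpecialLinearGroup (Fin 2) F)))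
    have hz1 : ((z : P) : Matrix.ProjectiveSpecialLinearGroup (Fin 2) F) ≠ 1 := fun h =>
      hz (Subtype.ext (Subtype.ext h))
    have hzz : ((z : P) : Matrix.ProjectiveSpecialLinearGroup (Fin 2) F) * (z : P) ≠ 1 := fun h => by
      obtain ⟨k, hk⟩ := IsPGroup.iff_orderOf.1 P.2 (z : P)
      rw [← Subgroup.orderOf_coe] at hk
      have hd := orderOf_dvd_of_pow_eq_one (x := ((z : P) :
        Matrix.ProjectiveSpecialLinearGroup (Fin 2) F)) (n := 2) (by rw [pow_two]; exact h)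
      rw [hk] at hd
      rcases k with - | k
      · exact hz1 (orderOf_eq_one_iff.1 (by rw [hk, pow_zero]))
      · exact hp ((Nat.prime_dvd_prime_iff_eq Fact.out Nat.prime_two).1
          ((dvd_pow_self p k.succ_ne_zero).trans hd))
    have hmem : ∀ c : P, (c : Matrix.ProjectiveSpecialLinearGroup (Fin 2) F) ∈ centralizer
        ({((z : P) : Matrix.ProjectiveSpecialLinearGroup (Fin 2) F)} : Set _) := fun c => by
      rw [mem_centralizer_singleton_iff]
      exact congrArg Subtype.val (Subgroup.mem_center_iff.1 z.2 c)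
    exact Subtype.ext (H86.PSLSizes.commute_of_mem_centralizer hz1 (Or.inl hzz) (hmem a) (hmem b)).eq
  · exact Subsingleton.elim _ _

theorem comm_of_equiv {A B : Type*} [Group A] [Finite A] [Group B] {p : ℕ} [Fact p.Prime] (e : A ≃* B)
    (h : ∀ P : Sylow p B, IsMulCommutative ↥(P : Subgroup B)) (P : Sylow p A) :
    IsMulCommutative ↥(P : Subgroup A) := by
  refine ⟨⟨fun a b => Subtype.ext (e.injective ?_)⟩⟩
  have hm : ∀ c : P, e (c : A) ∈ P.mapSurjective (f := e.toMonoidHom) e.surjective := fun c =>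
    Subgroup.mem_map_of_mem _ c.2
  have := (h (P.mapSurjective (f := e.toMonoidHom) e.surjective)).is_comm.comm
    ⟨_, hm a⟩ ⟨_, hm b⟩
  rw [Subgroup.coe_mul, Subgroup.coe_mul, map_mul, map_mul]
  exact congrArg Subtype.val this

/-- Odd Sylow subgroups of the groups in question are abelian. -/
theorem Cases.sylow_comm {X : Type u} [Group X] [Finite X] (h : Cases X) {p : ℕ} [hp : Fact p.Prime]
    (hp2 : p ≠ 2) (P : Sylow p X) : IsMulCommutative ↥(P : Subgroup X) := by
  rcases h with ⟨F, _, _, -, -, ⟨e⟩⟩ | ⟨F, _, _, hF, ⟨e⟩⟩ | ⟨⟨-, hc⟩, -⟩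
  · exact comm_of_equiv e (psl_sylow_comm hp2) P
  · obtain ⟨n, hn⟩ : ∃ n, Fintype.card F = 2 ^ n := by
      rcases hF with h | h | h <;> exact ⟨_, h⟩
    haveI := H62.PU.charP_two F hn
    exact comm_of_equiv (e.trans (H62.PU.pslEquiv F)) (psl_sylow_comm hp2) P
  · obtain ⟨k, hk⟩ := P.2.exists_card_eq
    have hk1 : k ≤ 1 := by
      by_contra hlt
      have h2 : p ^ 2 ∣ 175560 := by
        rw [← hc]
        exact (pow_dvd_pow p (by omega)).trans (hk ▸ card_subgroup_dvd_card _)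
      have hsf : ¬ p * p ∣ 21945 := fun hd => by
        have hlt : p < 149 := by
          by_contra hc
          have := Nat.le_of_dvd (by norm_num) hd
          nlinarith
        have h2p := hp.out.two_le
        interval_cases p <;> omega
      refine hsf ?_
      rw [← pow_two]
      refine (Nat.Coprime.dvd_of_dvd_mul_left ?_ (show p ^ 2 ∣ 2 ^ 3 * 21945 by norm_num; exact h2))
      exact Nat.Coprime.pow 2 3 ((Nat.coprime_primes hp.out Nat.prime_two).2 hp2)
    haveI : IsCyclic ↥(P : Subgroup X) := by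
      rcases Nat.le_one_iff_eq_zero_or_eq_one.1 hk1 with rfl | rfl
      · haveI : Subsingleton ↥(P : Subgroup X) :=
          (Nat.card_eq_one_iff_unique.1 (by rw [hk, pow_zero])).1
        infer_instance
      · exact isCyclic_of_prime_card (p := p) (by rw [hk, pow_one])
    exact IsCyclic.isMulCommutative

/-- A `p`-subgroup of a quotient is covered by one of predictable order. -/
theorem exists_lift {G : Type u} [Group G] [Finite G] {p : ℕ} [hp : Fact p.Prime] (K : Subgroup G)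
    [K.Normal] (H : Subgroup (G ⧸ K)) (hH : IsPGroup p H) :
    ∃ Q : Subgroup G, IsPGroup p Q ∧ Q.map (QuotientGroup.mk' K) = H ∧
      Nat.card Q = p ^ (Nat.card K * Nat.card H).factorization p := by
  set L := H.comap (QuotientGroup.mk' K)
  obtain ⟨S⟩ : Nonempty (Sylow p L) := inferInstance
  set f := (QuotientGroup.mk' K).subgroupComap H
  have hf : Function.Surjective f :=
    MonoidHom.subgroupComap_surjective_of_surjective _ _ (QuotientGroup.mk'_surjective K)
  refine ⟨(S : Subgroup L).map L.subtype, S.2.map _, ?_, ?_⟩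
  · have htop : (S : Subgroup L).map f = ⊤ :=
      ((S.mapSurjective hf).is_maximal' (hH.of_equiv Subgroup.topEquiv.symm) le_top).symm
    refine le_antisymm ?_ fun h hh => ?_
    · rintro _ ⟨_, ⟨a, -, rfl⟩, rfl⟩
      exact a.2
    · obtain ⟨a, ha, hae⟩ := (htop.ge (mem_top (⟨h, hh⟩ : H)))
      exact ⟨a, ⟨a, ha, rfl⟩, congrArg Subtype.val hae⟩
  · rw [card_map_of_injective L.subtype_injective, S.card_eq_multiplicity]
    rw [show Nat.card L = Nat.card K * Nat.card H from
      QuotientGroup.card_preimage_mk K (H : Set (G ⧸ K))]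

/-- All `p`-subgroups of equal order are conjugate. -/
def PConj (G : Type u) [Group G] : Prop :=
  ∀ p : ℕ, p.Prime → ∀ H K : Subgroup G, IsPGroup p H → IsPGroup p K → Nat.card H = Nat.card K →
    ∃ g : G, K = H.map (MulAut.conj g).toMonoidHom

theorem map_conj_map {A B : Type u} [Group A] [Group B] (f : A →* B) (H : Subgroup A) (g : A) :
    (H.map (MulAut.conj g).toMonoidHom).map f = (H.map f).map (MulAut.conj (f g)).toMonoidHom := by
  rw [map_map, map_map]
  congr 1
  ext x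
  simp

/-- A Sylow subgroup of exponent `p`, all of whose subgroups of order `p` are conjugate, is abelian
if `p` is odd and no nontrivial normal subgroup has order prime to `p`. -/
theorem no_extraspecial_reduced (hW : H10.Walter.WalterHyp.{u})
    (hR : H28.WardCons.TypeRCentralizer.{u}) (hWard : H28.WardCons.WardHyp.{u}) {G : Type u} [Group G]
    [Finite G] (hD : ∀ q : ℕ, q.Prime → ∀ A B : Subgroup G, IsPGroup q A → IsPGroup q B →
      IsMulCommutative A → IsMulCommutative B → Nat.card A = Nat.card B →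
        ∃ g : G, B = A.map (MulAut.conj g).toMonoidHom)
    {p : ℕ} [hp : Fact p.Prime] (hp2 : p ≠ 2) (hcore : Cfsg.pPrimeCore p G = ⊥) (P : Sylow p G)
    (hexp : ∀ x ∈ (P : Subgroup G), x ^ p = 1) : IsMulCommutative ↥(P : Subgroup G) := by
  by_contra hnc
  have hcomm : ¬ ∀ a ∈ (P : Subgroup G), ∀ b ∈ (P : Subgroup G), a * b = b * a := fun h =>
    hnc ⟨⟨fun a b => Subtype.ext (h a a.2 b b.2)⟩⟩
  have hP : (P : Subgroup G) ≠ ⊥ := fun h => hcomm fun a ha b hb => by
    rw [h, mem_bot] at ha hb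
    rw [ha, hb]
  obtain ⟨x₀, hx₀P, hx₀1⟩ := (P : Subgroup G).ne_bot_iff_exists_ne_one.1 hP |> fun ⟨a, ha⟩ =>
    (⟨a, a.2, fun h => ha (Subtype.ext h)⟩ : ∃ x, x ∈ (P : Subgroup G) ∧ x ≠ 1)
  have horder : ∀ y ∈ (P : Subgroup G), y ≠ 1 → orderOf y = p := fun y hy h1 =>
    orderOf_eq_prime (hexp y hy) h1
  -- nontrivial normal subgroups absorb `P`
  have absorb : ∀ N : Subgroup G, N.Normal → p ∣ Nat.card N → (P : Subgroup G) ≤ N := by
    intro N hN hd y hy
    obtain ⟨x, hx⟩ := exists_prime_orderOf_dvd_card' (G := N) p hd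
    rw [← Subgroup.orderOf_coe] at hx
    rcases eq_or_ne y 1 with rfl | hy1
    · exact N.one_mem
    obtain ⟨g, hg⟩ := hD p hp.out (zpowers (x : G)) (zpowers y)
      (IsPGroup.of_card (n := 1) (by rw [Nat.card_zpowers, hx, pow_one]))
      (IsPGroup.of_card (n := 1) (by rw [Nat.card_zpowers, horder y hy hy1, pow_one]))
      inferInstance inferInstance (by rw [Nat.card_zpowers, hx, Nat.card_zpowers, horder y hy hy1])
    obtain ⟨a, ha, hay⟩ := mem_map.1 (hg ▸ mem_zpowers y)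
    rw [← hay]
    exact hN.conj_mem a (zpowers_le.2 x.2 ha) g
  have hndvd : ∀ N : Subgroup G, N.Normal → N ≠ ⊥ → p ∣ Nat.card N := fun N hN h1 => by
    by_contra hd
    exact h1 (le_bot_iff.1 (hcore ▸ Cores.le_pPrimeCore (hN := hN)
      ((hp.out.coprime_iff_not_dvd.2 hd).symm)))
  -- a minimal normal subgroup
  obtain ⟨N, ⟨hN, hN1⟩, hmin⟩ : ∃ N : Subgroup G, (N.Normal ∧ N ≠ ⊥) ∧
      ∀ M : Subgroup G, M.Normal ∧ M ≠ ⊥ → M ≤ N → M = N := by
    obtain ⟨N, hN⟩ := exists_minimal_of_wellFoundedLT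
      (fun M : Subgroup G => M.Normal ∧ M ≠ ⊥)
      ⟨⊤, inferInstance, fun h => hP (le_bot_iff.1 (h ▸ le_top))⟩
    exact ⟨N, hN.1, fun M hM hle => le_antisymm hle (hN.2 hM hle)⟩
  haveI := hN
  have hPN : (P : Subgroup G) ≤ N := absorb N hN (hndvd N hN hN1)
  -- a minimal normal subgroup of `N`
  obtain ⟨T, ⟨hT, hT1⟩, hTmin⟩ : ∃ T : Subgroup N, (T.Normal ∧ T ≠ ⊥) ∧
      ∀ M : Subgroup N, M.Normal ∧ M ≠ ⊥ → M ≤ T → M = T := by
    haveI : Nontrivial N := (nontrivial_iff_ne_bot N).2 hN1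
    obtain ⟨N', hN'⟩ := exists_minimal_of_wellFoundedLT
      (fun M : Subgroup N => M.Normal ∧ M ≠ ⊥) ⟨⊤, inferInstance, top_ne_bot⟩
    exact ⟨N', hN'.1, fun M hM hle => le_antisymm hle (hN'.2 hM hle)⟩
  haveI := hT
  have hpT : p ∣ Nat.card T := by
    by_contra hd
    refine hT1 (le_bot_iff.1 ?_)
    have h1 : T ≤ Cfsg.pPrimeCore p N :=
      Cores.le_pPrimeCore ((hp.out.coprime_iff_not_dvd.2 hd).symm)
    refine h1.trans (le_of_eq ((map_eq_bot_iff_of_injective _ N.subtype_injective).1 ?_))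
    exact le_bot_iff.1 (hcore ▸ Cores.map_pPrimeCore_le_of_normal N)
  set T' := T.map N.subtype with hT'
  have hT'N : T' ≤ N := map_subtype_le _
  have hTconj : ∀ g : G, ∃ T₂ : Subgroup N, T₂.Normal ∧ T₂ = T.map (MulAut.conjNormal g).toMonoidHom :=
    fun g => ⟨_, hT.map _ (MulAut.conjNormal g : MulAut N).surjective, rfl⟩
  obtain ⟨x, hx⟩ := exists_prime_orderOf_dvd_card' (G := T) p hpT
  rw [← Subgroup.orderOf_coe, ← Subgroup.orderOf_coe] at hx
  -- every element of `P` lies in a conjugate of `T`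
  have hcover : ∀ y : N, (y : G) ∈ (P : Subgroup G) → y ≠ 1 →
      ∃ g : G, y ∈ T.map (MulAut.conjNormal g).toMonoidHom := by
    intro y hy hy1
    have hyo : orderOf (y : G) = p := horder _ hy fun h => hy1 (Subtype.ext h)
    obtain ⟨g, hg⟩ := hD p hp.out (zpowers ((x : N) : G)) (zpowers (y : G))
      (IsPGroup.of_card (n := 1) (by rw [Nat.card_zpowers, hx, pow_one]))
      (IsPGroup.of_card (n := 1) (by rw [Nat.card_zpowers, hyo, pow_one]))
      inferInstance inferInstance (by rw [Nat.card_zpowers, hx, Nat.card_zpowers, hyo])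
    obtain ⟨a, ha, hay⟩ := mem_map.1 (hg ▸ mem_zpowers (y : G))
    obtain ⟨j, hj⟩ := mem_zpowers_iff.1 ha
    refine ⟨g, ⟨((x : N)) ^ j, T.zpow_mem x.2 j, Subtype.ext ?_⟩⟩
    rw [← hay, ← hj]
    simp [MulAut.conjNormal_apply]
  have hdisj : ∀ T₁ T₂ : Subgroup N, T₁.Normal → T₂.Normal → T₁ ⊓ T₂ = ⊥ →
      ∀ a ∈ T₁, ∀ b ∈ T₂, Commute a b := fun T₁ T₂ h1 h2 hd a ha b hb =>
    Subgroup.commute_of_normal_of_disjoint T₁ T₂ h1 h2 (disjoint_iff.2 hd) a b ha hb
  have hminconj : ∀ g : G, ∀ M : Subgroup N, M.Normal → M ≤ T.map (MulAut.conjNormal g).toMonoidHom →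
      M = ⊥ ∨ M = T.map (MulAut.conjNormal g).toMonoidHom := by
    intro g M hM hle
    rcases eq_or_ne M ⊥ with rfl | hM1
    · exact Or.inl rfl
    right
    set α : MulAut N := MulAut.conjNormal g with hα
    have hback : M = (M.comap α.toMonoidHom).map α.toMonoidHom :=
      (map_comap_eq_self_of_surjective α.surjective M).symm
    rw [hback]
    congr 1
    refine hTmin _ ⟨hM.comap _, fun h => hM1 (by rw [hback, h, Subgroup.map_bot])⟩ ?_
    rw [← comap_map_eq_self_of_injective (f := α.toMonoidHom) α.injective T]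
    exact comap_mono hle
  by_cases hTc : ∀ a ∈ T, ∀ b ∈ T, Commute a b
  · refine hcomm fun a ha b hb => ?_
    rcases eq_or_ne a 1 with rfl | ha1
    · simp
    rcases eq_or_ne b 1 with rfl | hb1
    · simp
    obtain ⟨g₁, h₁⟩ := hcover ⟨a, hPN ha⟩ ha fun h => ha1 (congrArg Subtype.val h)
    obtain ⟨g₂, h₂⟩ := hcover ⟨b, hPN hb⟩ hb fun h => hb1 (congrArg Subtype.val h)
    suffices Commute (⟨a, hPN ha⟩ : N) ⟨b, hPN hb⟩ from congrArg Subtype.val this.eq
    obtain ⟨T₁, hn₁, e₁⟩ := hTconj g₁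
    obtain ⟨T₂, hn₂, e₂⟩ := hTconj g₂
    rcases hminconj g₁ (T₁ ⊓ T₂) inferInstance (e₁ ▸ inf_le_left) with hd | hd
    · exact hdisj T₁ T₂ hn₁ hn₂ hd _ (e₁ ▸ h₁) _ (e₂ ▸ h₂)
    · have hle : T.map (MulAut.conjNormal g₁ : MulAut N).toMonoidHom ≤
          T.map (MulAut.conjNormal g₂ : MulAut N).toMonoidHom := hd ▸ (e₂ ▸ inf_le_right)
      obtain ⟨a', ha', hae⟩ := hle h₁
      obtain ⟨b', hb', hbe⟩ := h₂
      rw [← hae, ← hbe]
      exact (hTc a' ha' b' hb').map _
  -- `T` is normal in `G`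
  have hcen : ∀ c ∈ T, (∀ d ∈ T, Commute c d) → c = 1 := by
    intro c hc hcd
    haveI : (T ⊓ centralizer (T : Set N)).Normal :=
      haveI : (centralizer (T : Set N)).Normal := normal_centralizer
      inferInstance
    by_contra hc1
    have hmem : c ∈ T ⊓ centralizer (T : Set N) :=
      ⟨hc, mem_centralizer_iff.2 fun d hd => ((hcd d hd).eq).symm⟩
    have := hTmin (T ⊓ centralizer (T : Set N)) ⟨inferInstance, fun h => hc1 (by
      rwa [h, mem_bot] at hmem)⟩ inf_le_left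
    refine hTc fun a ha b hb => ?_
    rw [← this] at ha
    exact ((mem_centralizer_iff.1 ha.2) b hb).symm
  have hTn : ∀ g : G, T.map (MulAut.conjNormal g : MulAut N).toMonoidHom = T := by
    intro g
    by_contra hne
    obtain ⟨T₂, hn₂, e₂⟩ := hTconj g
    have hd : T ⊓ T₂ = ⊥ := by
      rcases hminconj g (T ⊓ T₂) inferInstance (e₂ ▸ inf_le_right) with h | h
      · exact h
      · exfalso
        have hle : T.map (MulAut.conjNormal g : MulAut N).toMonoidHom ≤ T := h ▸ inf_le_left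
        exact hne (hTmin _ ⟨e₂ ▸ hn₂, fun hb => hT1 ((map_eq_bot_iff_of_injective _
          (MulAut.conjNormal g : MulAut N).injective).1 hb)⟩ hle)
    set y : N := (MulAut.conjNormal g : MulAut N) (x : N) with hy
    have hyT : y ∈ T₂ := e₂ ▸ mem_map_of_mem _ x.2
    have hxy : Commute (x : N) y := hdisj T T₂ hT hn₂ hd _ x.2 _ hyT
    have hyo : orderOf y = p := by
      rw [hy, MulEquiv.orderOf_eq, ← Subgroup.orderOf_coe, hx]
    have hxo : orderOf (x : N) = p := by rw [← Subgroup.orderOf_coe, hx]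
    have hz1 : (x : N) * y ≠ 1 := fun h => by
      have : (x : N) ∈ T ⊓ T₂ := ⟨x.2, by
        rw [eq_inv_of_mul_eq_one_left h]; exact T₂.inv_mem hyT⟩
      rw [hd, mem_bot] at this
      rw [this, orderOf_one] at hxo
      exact hp.out.ne_one hxo.symm
    have hzo : orderOf ((x : N) * y) = p := orderOf_eq_prime
      (by rw [hxy.mul_pow, ← hxo, pow_orderOf_eq_one, hxo, ← hyo, pow_orderOf_eq_one, one_mul]) hz1
    have hzG : orderOf (((x : N) * y : N) : G) = p := by rw [Subgroup.orderOf_coe, hzo]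
    obtain ⟨Q, hQ⟩ := (IsPGroup.of_card (n := 1) (by rw [Nat.card_zpowers, hzG, pow_one]) :
      IsPGroup p (zpowers (((x : N) * y : N) : G))).exists_le_sylow
    obtain ⟨c, hc⟩ := MulAction.exists_smul_eq G Q P
    have hcz : c * (((x : N) * y : N) : G) * c⁻¹ ∈ (P : Subgroup G) := by
      rw [← hc]
      exact ⟨_, hQ (mem_zpowers _), rfl⟩
    obtain ⟨g₃, h₃⟩ := hcover ((MulAut.conjNormal c : MulAut N) ((x : N) * y))
      (by rw [MulAut.conjNormal_apply]; exact hcz) (fun h => hz1 ((MulEquiv.map_eq_one_iff _).1 h))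
    have h₄ : (x : N) * y ∈ T.map (MulAut.conjNormal (c⁻¹ * g₃) : MulAut N).toMonoidHom := by
      obtain ⟨w, hw, he⟩ := h₃
      refine ⟨w, hw, Subtype.ext ?_⟩
      have he' := congrArg (fun a : N => (a : G)) he
      simp only [MulEquiv.coe_toMonoidHom, MulAut.conjNormal_apply] at he' ⊢
      calc c⁻¹ * g₃ * (w : G) * (c⁻¹ * g₃)⁻¹ = c⁻¹ * (g₃ * w * g₃⁻¹) * c := by group
        _ = _ := by rw [he']; group
    obtain ⟨T₄, hn₄, e₄⟩ := hTconj (c⁻¹ * g₃)
    rcases hminconj (c⁻¹ * g₃) (T₄ ⊓ T) inferInstance (e₄ ▸ inf_le_left) with h | h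
    · have hx1 : (x : N) = 1 := hcen _ x.2 fun d hd' => by
        have h5 : Commute ((x : N) * y) d := hdisj T₄ T hn₄ hT h _ (e₄ ▸ h₄) _ hd'
        have h6 : Commute y d := (hdisj T T₂ hT hn₂ hd _ hd' _ hyT).symm
        simpa using h5.mul_left h6.inv_left
      rw [hx1, orderOf_one] at hxo
      exact hp.out.ne_one hxo.symm
    · have hle : T.map (MulAut.conjNormal (c⁻¹ * g₃) : MulAut N).toMonoidHom ≤ T :=
        h ▸ inf_le_right
      have hyT' : y ∈ T := by simpa using T.mul_mem (T.inv_mem x.2) (hle h₄)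
      have : y ∈ T ⊓ T₂ := ⟨hyT', hyT⟩
      rw [hd, mem_bot] at this
      rw [this, orderOf_one] at hyo
      exact hp.out.ne_one hyo.symm
  haveI hT'n : T'.Normal := ⟨fun a ha g => by
    obtain ⟨a, ha, rfl⟩ := ha
    exact ⟨(MulAut.conjNormal g : MulAut N) a, (hTn g).le (mem_map_of_mem _ ha),
      MulAut.conjNormal_apply g a⟩⟩
  have hTtop : T = ⊤ := by
    have := hmin T' ⟨hT'n, fun h => hT1 ((map_eq_bot_iff_of_injective _ N.subtype_injective).1 h)⟩
      hT'N
    refine map_injective N.subtype_injective ?_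
    rw [← MonoidHom.range_eq_map, range_subtype]
    exact this
  subst hTtop
  haveI : Nontrivial N := (nontrivial_iff_ne_bot N).2 hN1
  haveI : IsSimpleGroup N := ⟨fun M hM => (em (M = ⊥)).imp id fun h => hTmin M ⟨hM, h⟩ le_top⟩
  have hna : ¬ IsMulCommutative N := fun h => hTc fun a _ b _ => h.is_comm.comm a b
  obtain ⟨S⟩ : Nonempty (Sylow p N) := inferInstance
  have hS := (simple_cases hW hR hWard hna (AbConj.of_normal hD N)).sylow_comm hp2
    (P.subtype hPN)
  refine hcomm fun a ha b hb => ?_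
  exact congrArg (fun c : ↥(P.subtype hPN : Subgroup N) => ((c : N) : G))
    (hS.is_comm.comm ⟨⟨a, hPN ha⟩, ha⟩ ⟨⟨b, hPN hb⟩, hb⟩)

theorem no_extraspecial (hW : H10.Walter.WalterHyp.{u}) (hR : H28.WardCons.TypeRCentralizer.{u})
    (hWard : H28.WardCons.WardHyp.{u}) {G : Type u} [Group G] [Finite G] (hD : PConj G) {p : ℕ}
    [hp : Fact p.Prime] (hp2 : p ≠ 2) (P : Sylow p G) (hexp : ∀ x ∈ (P : Subgroup G), x ^ p = 1) :
    IsMulCommutative ↥(P : Subgroup G) := by
  set K := Cfsg.pPrimeCore p G with hK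
  set π := QuotientGroup.mk' K with hπ
  have hsurj : Function.Surjective π := QuotientGroup.mk'_surjective K
  have hKp : ¬ p ∣ Nat.card K :=
    hp.out.coprime_iff_not_dvd.1 (Cores.coprime_card_pPrimeCore (G := G) (p := p)).symm
  have hQ := no_extraspecial_reduced hW hR hWard (G := G ⧸ K) (fun q hq A B hA hB _ _ hc => by
    haveI := Fact.mk hq
    obtain ⟨QA, hA1, hA2, hA3⟩ := exists_lift K A hA
    obtain ⟨QB, hB1, hB2, hB3⟩ := exists_lift K B hB
    obtain ⟨g, hg⟩ := hD q hq QA QB hA1 hB1 (by rw [hA3, hB3, hc])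
    exact ⟨π g, by rw [← hB2, hg, map_conj_map, hA2]⟩) hp2 Cores.pPrimeCore_quotient_pPrimeCore
    (P.mapSurjective hsurj) (by
      rintro _ ⟨a, ha, rfl⟩
      rw [← map_pow, hexp a ha, map_one])
  refine ⟨⟨fun a b => Subtype.ext ?_⟩⟩
  have hm : ∀ c : P, π c ∈ P.mapSurjective hsurj := fun c => mem_map_of_mem _ c.2
  have hab : π ((a : G) * b) = π ((b : G) * a) := by
    rw [map_mul, map_mul]
    exact congrArg Subtype.val (hQ.is_comm.comm ⟨_, hm a⟩ ⟨_, hm b⟩)
  have hmem : ((a : G) * b)⁻¹ * (b * a) ∈ K := QuotientGroup.eq.1 hab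
  have hd1 : orderOf (((a : G) * b)⁻¹ * (b * a)) ∣ p :=
    orderOf_dvd_of_pow_eq_one (hexp _
      (mul_mem (inv_mem (mul_mem a.2 b.2)) (mul_mem b.2 a.2)))
  rcases (Nat.dvd_prime hp.out).1 hd1 with h | h
  · exact inv_mul_eq_one.1 (orderOf_eq_one_iff.1 h)
  · exact absurd (h ▸ Subgroup.orderOf_dvd_natCard K hmem) hKp

end Cfsg.Agent.H93.CosylConj
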